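import Cfsg.Agent.CocycleCert.He.Checked
import Cfsg.Agent.CocycleCert.Sound
import Cfsg.Agent.CosetCert.Sp44.InHe
import Cfsg.Agent.StemCert.Split
import Cfsg.Agent.ProjExt.Stem
import Cfsg.Agent.SpMult.Main

/-!
The Schur multiplier of the presented Held group is trivial: the point stabiliser has a normal subgroup of index
two with trivial multiplier, so lifts of the seven generators satisfy all relators in any stem extension.
-/

set_option autoImplicit false

namespace Cfsg.Agent.CocycleCert.He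

open Cfsg.Agent.CosetCert
open scoped commutatorElement

/-- The symplectic subgroup in a point stabiliser. -/
theorem exists_core : ∃ H0 : Subgroup (PresentedGroup Sp44.HeRels), H0 ≤ Sp44.heSub ∧
    (H0.subgroupOf Sp44.heSub).index = 2 ∧ commutator H0 = ⊤ ∧ Cfsg.HasCyclicSchurMultiplier H0 1 := by
  obtain ⟨ψ, hinj, hle⟩ := Sp44.exists_embed
  obtain ⟨e⟩ := Sp44.exists_iso
  let e' : ψ.range ≃* Matrix.symplecticGroup (Fin 2) ThreeTrans.SU32.F4 :=
    (MonoidHom.ofInjective hinj).symm.trans e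
  have hperf := Classical.commutator_symplectic (m := 2) (F := ThreeTrans.SU32.F4)
    (Or.inr (Or.inl ⟨rfl, by rw [ThreeTrans.SU32.F4.card_eq]; norm_num⟩))
  refine ⟨ψ.range, hle, ?_, ?_, ?_⟩
  · let ψ' : Sp44.P →* Sp44.heSub := ψ.codRestrict _ fun g => hle ⟨g, rfl⟩
    have hidx := Sp44.index_range ψ' (fun a b h => hinj (congrArg Subtype.val h)) Sp44.card_heSub
    convert hidx using 2
    ext x
    constructor
    · rintro ⟨a, ha⟩; exact ⟨a, Subtype.ext ha⟩
    · rintro ⟨a, rfl⟩; exact ⟨a, rfl⟩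
  · rw [← Subgroup.map_top_of_surjective e'.symm.toMonoidHom e'.symm.surjective, ← hperf, commutator_def,
      commutator_def, Subgroup.map_commutator, Subgroup.map_top_of_surjective _ e'.symm.surjective]
  · have hfin : Finite ψ.range := Finite.of_equiv _ e'.symm.toEquiv
    refine ProjExt.Stem.hasCyclicSchurMultiplier_one fun Γ _ _ σ hσ => ?_
    have hk : (e'.toMonoidHom.comp σ).ker = σ.ker := by
      ext x; simp [MonoidHom.mem_ker]
    have hσ' : Cfsg.IsStemExtension (e'.toMonoidHom.comp σ) :=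
      ⟨e'.surjective.comp hσ.1, hk ▸ hσ.2.1, hk ▸ hσ.2.2⟩
    rw [← hk]
    exact ProjExt.Stem.ker_eq_bot_of_trivial (SpMult.sp_multiplier_trivial le_rfl
      (fun _ => by rw [ThreeTrans.SU32.F4.card_eq]; norm_num) (fun h => by omega)) Γ _ hσ'

/-- In a stem extension the kernel meets the derived group of the preimage of the stabiliser trivially. -/
theorem ker_meet {Γ : Type} [Group Γ] [Finite Γ] (σ : Γ →* PresentedGroup Sp44.HeRels)
    (hσ : Cfsg.IsStemExtension σ) (z : Γ) (hz : z ∈ Sp44.heSub.comap σ) (hzk : z ∈ σ.ker)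
    (hzc : (⟨z, hz⟩ : Sp44.heSub.comap σ) ∈ commutator (Sp44.heSub.comap σ)) : z = 1 := by
  obtain ⟨H0, hle, hidx, hperf, hmult⟩ := exists_core
  obtain ⟨ρ, hρ⟩ := StemCert.exists_retraction hperf hmult σ hσ
  obtain ⟨hsurj, hker, -⟩ := hσ
  let f : Sp44.heSub.comap σ →* Sp44.heSub := (σ.comp (Subgroup.subtype _)).codRestrict _ fun p => p.2
  have hf : Function.Surjective f := fun h => by
    obtain ⟨x, hx⟩ := hsurj h
    exact ⟨⟨x, by rw [Subgroup.mem_comap, hx]; exact h.2⟩, Subtype.ext hx⟩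
  let N : Subgroup (Sp44.heSub.comap σ) := (H0.subgroupOf Sp44.heSub).comap f
  have hN : N.index = 2 := by rw [Subgroup.index_comap_of_surjective _ hf, hidx]
  have : N.Normal := Subgroup.normal_of_index_eq_two hN
  let ι : N →* H0.comap σ := ((Subgroup.subtype _).comp N.subtype).codRestrict _ fun p => p.2
  let D : Subgroup (Sp44.heSub.comap σ) := (commutator N).map N.subtype
  have hDn : D.Normal := inferInstance
  have hsplit : ∀ p ∈ N, ∃ e ∈ D, (e⁻¹ * p) ∈ Subgroup.center (Sp44.heSub.comap σ) := by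
    intro p hp
    let τ : N →* H0 := ((σ.comp (Subgroup.subtype _)).comp N.subtype).codRestrict _ fun q => q.2
    have hτ : Function.Surjective τ := fun h => by
      obtain ⟨x, hx⟩ := hsurj h
      exact ⟨⟨⟨x, by rw [Subgroup.mem_comap, hx]; exact hle h.2⟩, by
        show σ x ∈ H0
        rw [hx]; exact h.2⟩, Subtype.ext hx⟩
    have hmap : (commutator N).map τ = ⊤ := by
      rw [commutator_def, Subgroup.map_commutator, Subgroup.map_top_of_surjective _ hτ, ← commutator_def,
        hperf]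
    obtain ⟨q, hq, hqp⟩ := Subgroup.mem_map.mp (hmap ▸ Subgroup.mem_top (τ ⟨p, hp⟩))
    refine ⟨q, Subgroup.mem_map_of_mem _ hq, Subgroup.mem_center_iff.mpr fun y => Subtype.ext ?_⟩
    refine Subgroup.mem_center_iff.mp (hker (MonoidHom.mem_ker.mpr ?_)) y
    have h1 : σ ((q : Sp44.heSub.comap σ) : Γ) = σ (p : Γ) := congrArg Subtype.val hqp
    simp [h1]
  have hcomm : commutator (Sp44.heSub.comap σ) ≤ D := by
    rw [commutator_def, Subgroup.commutator_le]
    have hN1 : ∀ p ∈ N, ∀ q, ⁅p, q⁆ ∈ D := fun p hp q => by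
      obtain ⟨e, he, hc⟩ := hsplit p hp
      have : ⁅p, q⁆ = ⁅e, q⁆ := by
        conv_lhs => rw [show p = e * (e⁻¹ * p) by group, show q = q * 1 by group]
        exact StemCert.commutator_mul_central e q hc (one_mem _)
      rw [this, commutatorElement_def]
      rw [show e * q * e⁻¹ * q⁻¹ = e * (q * e⁻¹ * q⁻¹) by group]
      exact mul_mem he (hDn.conj_mem _ (inv_mem he) q)
    intro p _ q _
    by_cases hp : p ∈ N
    · exact hN1 p hp q
    by_cases hq : q ∈ N
    · rw [← commutatorElement_inv]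
      exact inv_mem (hN1 q hq p)
    have hn : p⁻¹ * q ∈ N := by
      rw [Subgroup.mul_mem_iff_of_index_two hN, inv_mem_iff]
      simp [hp, hq]
    have : ⁅p, q⁆ = p * ⁅p⁻¹ * q, p⁆⁻¹ * p⁻¹ := by
      simp only [commutatorElement_def, mul_inv_rev]
      group
    rw [this]
    exact hDn.conj_mem _ (inv_mem (hN1 _ hn p)) p
  obtain ⟨m, hm, hmz⟩ := Subgroup.mem_map.mp (hcomm hzc)
  have h1 : ρ (ι m) = 1 := by
    letI : CommGroup σ.ker :=
      { (inferInstance : Group σ.ker) with
        mul_comm := fun a b => Subtype.ext (Subgroup.mem_center_iff.mp (hker b.2) a) }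
    exact Abelianization.commutator_subset_ker (ρ.comp ι) hm
  have h2 : ((m : Sp44.heSub.comap σ) : Γ) = z := congrArg Subtype.val hmz
  have hzH : z ∈ H0.comap σ := by rw [← h2]; exact m.2
  have h3 : ι m = ⟨z, hzH⟩ := Subtype.ext h2
  rw [h3, hρ z hzk hzH] at h1
  exact congrArg Subtype.val h1

/-- The relators of the certificate are those of the presentation. -/
theorem rels_eq : cert.rels =
    (coxWords HeSp44.genList Cfsg.Spor.He.edges Cfsg.Spor.He.extra).map
      (List.map fun a => (HeSp44.enc a.1, a.2)) := by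
  decide +kernel

/-- Every stem extension has trivial kernel. -/
theorem ker_eq_bot {Γ : Type} [Group Γ] [Finite Γ] (σ : Γ →* Cfsg.Spor.He) (hσ : Cfsg.IsStemExtension σ) :
    σ.ker = ⊥ := by
  obtain ⟨φ, π, hπ, hfwd⟩ := Data.enumeration HeSp44.valid HeSp44.spells
  have hS := HeSp44.spells
  let g : ℕ → PresentedGroup Sp44.HeRels := fun x =>
    PresentedGroup.mk Sp44.HeRels (FreeGroup.mk [HeSp44.dec x])
  have hsq : ∀ x < 7, (g x)⁻¹ = g x := fun x hx => inv_eq_of_mul_eq_one_right (hS.inv_letter x hx)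
  have hT : ∀ x < 7, ∀ c : Fin 2058, (((φ (g x))⁻¹ c : Fin 2058) : ℕ) = tab c x := fun x hx c => by
    rw [hfwd [HeSp44.dec x] c, List.map_cons, List.map_nil, hS.code_dec x hx, Data.fwd_cons,
      Data.fwd_nil]
    rfl
  have hev : ∀ l : List (Cfsg.Spor.He.Gen × Bool),
      evalS g (l.map fun a => (HeSp44.enc a.1, a.2)) = PresentedGroup.mk Sp44.HeRels (FreeGroup.mk l) := by
    intro l
    induction l with
    | nil => simp [evalS, ← FreeGroup.one_eq_mk]
    | cons a l ih =>
      rw [List.map_cons, evalS_cons, ih, show FreeGroup.mk (a :: l) = FreeGroup.mk [a] * FreeGroup.mk l by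
        rw [FreeGroup.mul_mk]; rfl, map_mul]
      congr 1
      obtain ⟨b, _ | _⟩ := a
      · simp only [cond_false, g, (hS.enc_lt b).2]
        rw [← map_inv, FreeGroup.inv_mk]
        rfl
      · simp only [cond_true, g, (hS.enc_lt b).2]
  obtain ⟨l, hl, hrel⟩ := exists_lifts (C := cert) checked σ hσ.1 hσ.2.1 φ g hT
    (fun x hx c => by
      have h := hT x hx c
      rw [← map_inv, hsq x hx] at h
      exact h)
    (by
      rw [rels_eq]
      intro w hw
      obtain ⟨w, hw', rfl⟩ := List.mem_map.mp hw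
      rw [hev]
      exact hS.rels_one w hw')
    Sp44.heSub (fun y hy => (Data.apply_base_iff HeSp44.valid HeSp44.spells φ π hπ hfwd y).1 hy)
    (Abelianization.of) fun z hz hzk h1 => ker_meet σ hσ z hz hzk (by
      rwa [← MonoidHom.mem_ker, Abelianization.ker_of] at h1)
  -- lifts satisfying the relators split the extension
  let F : FreeGroup Cfsg.Spor.He.Gen →* Γ := FreeGroup.lift fun b => l (HeSp44.enc b)
  have hF : ∀ w : List (Cfsg.Spor.He.Gen × Bool),
      F (FreeGroup.mk w) = evalS l (w.map fun a => (HeSp44.enc a.1, a.2)) := fun w => by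
    simp only [F, FreeGroup.lift_mk, evalS, List.map_map, Function.comp_def]
  have hr : ∀ r ∈ Sp44.HeRels, F r = 1 := fun r hr => by
    have hle : Subgroup.normalClosure {r | r ∈ (coxWords HeSp44.genList Cfsg.Spor.He.edges
        Cfsg.Spor.He.extra).map FreeGroup.mk} ≤ F.ker := by
      refine Subgroup.normalClosure_le_normal ?_
      intro r hr
      obtain ⟨w, hw, rfl⟩ := List.mem_map.mp hr
      rw [SetLike.mem_coe, MonoidHom.mem_ker, hF]
      exact hrel _ (by rw [rels_eq]; exact List.mem_map_of_mem hw)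
    exact MonoidHom.mem_ker.mp (hle (hS.rels_mem hr))
  let Ψ : Cfsg.Spor.He →* Γ := PresentedGroup.toGroup hr
  have hid : ∀ y, σ (Ψ y) = y := fun y => by
    have h : σ.comp Ψ = MonoidHom.id _ := PresentedGroup.ext fun b => by
      simp only [MonoidHom.comp_apply, MonoidHom.id_apply, Ψ, PresentedGroup.toGroup.of, hl, g,
        (hS.enc_lt b).2]
      rfl
    exact DFunLike.congr_fun h y
  rw [Subgroup.eq_bot_iff_forall]
  intro z hz
  have hc : commutator Γ ≤ Ψ.range := by
    rw [commutator_def, Subgroup.commutator_le]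
    intro a _ b _
    have hd : ∀ a : Γ, (Ψ (σ a))⁻¹ * a ∈ Subgroup.center Γ := fun a =>
      hσ.2.1 (by rw [MonoidHom.mem_ker, map_mul, map_inv, hid, inv_mul_cancel])
    refine ⟨⁅σ a, σ b⁆, ?_⟩
    conv_rhs => rw [show a = Ψ (σ a) * ((Ψ (σ a))⁻¹ * a) by group,
      show b = Ψ (σ b) * ((Ψ (σ b))⁻¹ * b) by group]
    rw [StemCert.commutator_mul_central _ _ (hd a) (hd b), map_commutatorElement]
  obtain ⟨y, rfl⟩ := hc (hσ.2.2 hz)
  rw [MonoidHom.mem_ker, hid] at hz
  rw [hz, map_one]

/-- The multiplier is trivial. -/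
theorem multiplier : Cfsg.HasCyclicSchurMultiplier Cfsg.Spor.He 1 := by
  have := HeOrder.card_bound.1
  exact ProjExt.Stem.hasCyclicSchurMultiplier_one fun Γ _ _ σ hσ => ker_eq_bot σ hσ

end Cfsg.Agent.CocycleCert.He
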